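import Groth.Agent.Ega11.SchemeDimFormula
import Groth.Agent.Ega11.SchemeTop
import Groth.Agent.Cyc90.ClosureSub
import Groth.Agent.Cyc90.FlatRelDim
import Groth.Agent.Cons51.Reduced
import Groth.Agent.E4O.Subscheme
import Groth.Agent.Cat58.Rings
import Groth.Agent.EGA4H10.Catenary
import Mathlib.AlgebraicGeometry.Morphisms.FinitePresentation

/-!
Dimension of closures in schemes of finite type over universally catenary local rings.
-/

set_option autoImplicit false
universe u

open CategoryTheory AlgebraicGeometry TopologicalSpace Topology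
open Groth.Agent.Ega11

namespace Groth.Agent.EtCd93

theorem isUniversallyCatenary_localization {R : Type u} [CommRing R] (h : CAlg.IsUniversallyCatenary R)
    (M : Submonoid R) (A : Type u) [CommRing A] [Algebra R A] [IsLocalization M A] :
    CAlg.IsUniversallyCatenary A := by
  have := h.1
  refine ⟨IsLocalization.isNoetherianRing M A h.1, fun S _ _ hS => ?_⟩
  obtain ⟨n, φ, hφ⟩ := Algebra.FiniteType.iff_quotient_mvPolynomial''.1 hS
  exact Cat58.isCatenary_of_surjective φ.toRingHom hφ
    (Cat58.isCatenary_mvPolynomial_localization M (h.2 _ inferInstance))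

theorem coverSucc_of_domain {R : Type u} [CommRing R] [IsDomain R] [IsNoetherianRing R] [IsLocalRing R]
    (h : CAlg.IsCatenary R) : EGA4H10.CoverSucc R :=
  EGA4H10.coverSucc_of_catenary_equidim h fun p hp => by
    obtain rfl : p = ⊥ := by
      simpa [minimalPrimes, IsDomain.minimalPrimes_eq_singleton_bot] using hp
    exact ringKrullDim_eq_of_ringEquiv (RingEquiv.quotientBot R)

/-- A closed point of a scheme of finite type over a Noetherian ring maps to a point with closure of
dimension at most one. -/
theorem dim_closure_image_le_one {X Y : Scheme.{u}} [IsLocallyNoetherian Y] (h : X ⟶ Y) [LocallyOfFiniteType h]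
    [QuasiCompact h] {z : X} (hz : IsClosed ({z} : Set X)) :
    topologicalKrullDim ↥(closure ({h z} : Set Y)) ≤ 1 := by
  have : IsLocallyNoetherian X := LocallyOfFiniteType.isLocallyNoetherian h
  have : LocallyOfFinitePresentation h := inferInstance
  have hc : IsLocallyConstructible ({z} : Set X) := by
    intro x
    obtain ⟨U, hU, hxU, -⟩ := exists_isAffineOpen_mem_and_subset (x := x) (U := (⊤ : X.Opens)) trivial
    refine ⟨U, U.2.mem_nhds hxU, U.2, ?_⟩
    have : IsAffine U.toScheme := hU
    have : NoetherianSpace (U : Set X) := by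
      have : IsNoetherianRing Γ(X, U) := IsLocallyNoetherian.component_noetherian ⟨U, hU⟩
      have : IsLocallyNoetherian U.toScheme := isLocallyNoetherian_of_isOpenImmersion U.ι
      have : IsNoetherian U.toScheme := { }
      exact inferInstanceAs (NoetherianSpace U.toScheme)
    exact ConstrTop58.isConstructible_of_isClosed (hz.preimage continuous_subtype_val)
  have h1 := h.isLocallyConstructible_image hc
  rw [Set.image_singleton] at h1
  obtain ⟨Z, hZ, hZne, hZs⟩ := SchemeTop.exists_nonempty_isLocallyClosed_subset h1 (Set.singleton_nonempty _)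
  rw [(Set.subset_singleton_iff_eq.1 hZs).resolve_left hZne.ne_empty] at hZ
  exact SchemeTop.topologicalKrullDim_closure_le_one Y hZ

/-- EGA: `d(x) = δ(x)` if the closure of `x` meets the closed fibre, `d(x) + 1 = δ(x)` otherwise. -/
theorem dim_closure_cases {A : CommRingCat.{u}} [IsNoetherianRing A] [IsLocalRing A]
    (hA : CAlg.IsUniversallyCatenary A) {X : Scheme.{u}} (f : X ⟶ Spec A) [LocallyOfFiniteType f]
    [QuasiCompact f] (x : X) (a d : ℕ) (ha : ringKrullDim (A ⧸ (f x).asIdeal) = a)
    (hd : topologicalKrullDim ↥(closure ({x} : Set X)) = d) :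
    ((∃ z ∈ closure ({x} : Set X), f z = IsLocalRing.closedPoint A) → d = a + E4O.fdeg f x) ∧
      ((∀ z ∈ closure ({x} : Set X), f z ≠ IsLocalRing.closedPoint A) → d + 1 = a + E4O.fdeg f x) := by
  let p := (f x).asIdeal
  have hp : p.IsPrime := (f x).2
  let A' := CommRingCat.of (A ⧸ p)
  let π : A ⟶ A' := CommRingCat.ofHom (Ideal.Quotient.mk p)
  let j : Spec A' ⟶ Spec A := Spec.map π
  have : IsLocalRing A' := IsLocalRing.of_surjective' (Ideal.Quotient.mk p) Ideal.Quotient.mk_surjective
  have : IsDomain A' := inferInstanceAs (IsDomain (A ⧸ p))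
  have : IsNoetherianRing A' := inferInstanceAs (IsNoetherianRing (A ⧸ p))
  have : IsClosedImmersion j := IsClosedImmersion.spec_of_surjective π Ideal.Quotient.mk_surjective
  have hA' : CAlg.IsUniversallyCatenary A' :=
    UCDim.isUniversallyCatenary_of_surjective (Ideal.Quotient.mk p) Ideal.Quotient.mk_surjective hA
  have hjr : Set.range j = PrimeSpectrum.zeroLocus p := by
    refine (range_comap_of_surjective _ (Ideal.Quotient.mk p) Ideal.Quotient.mk_surjective).trans ?_
    exact congrArg _ (congrArg _ Ideal.mk_ker)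
  let i := Cyc90.clι x
  obtain ⟨g, hg⟩ : ∃ g : Cyc90.cl x ⟶ Spec A', g ≫ j = i ≫ f := by
    refine Cons51.exists_lift (i ≫ f) j ?_
    rintro _ ⟨w, rfl⟩
    rw [hjr]
    have hsp : x ⤳ i w := specializes_iff_mem_closure.2 ((Cyc90.range_clι x).le ⟨w, rfl⟩)
    exact (PrimeSpectrum.le_iff_specializes _ _).2 (hsp.map f.continuous)
  have : LocallyOfFiniteType (g ≫ j) := by rw [hg]; infer_instance
  have : LocallyOfFiniteType g := locallyOfFiniteType_of_comp g j
  have : QuasiCompact (g ≫ j) := by rw [hg]; infer_instance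
  have : QuasiCompact g := QuasiCompact.of_comp g j
  have hgj : ∀ w, j (g w) = f (i w) := fun w =>
    (Scheme.Hom.comp_apply g j w).symm.trans (by rw [hg]; rfl)
  have hgen : j (g (genericPoint (Cyc90.cl x))) = f x := by rw [hgj, Cyc90.clι_genericPoint]
  have hη : ∀ y : Spec A', g (genericPoint (Cyc90.cl x)) ⤳ y := fun y => by
    refine j.isClosedEmbedding.isInducing.specializes_iff.1 ?_
    rw [hgen]
    exact (PrimeSpectrum.le_iff_specializes _ _).1 (hjr.le ⟨y, rfl⟩)
  have hfd : E4O.fdeg g (genericPoint (Cyc90.cl x)) = E4O.fdeg f x := by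
    have h1 : E4O.fdeg (g ≫ j) (genericPoint (Cyc90.cl x)) = E4O.fdeg g (genericPoint (Cyc90.cl x)) := by
      unfold E4O.fdeg
      rw [Scheme.Hom.comp_base, TopCat.coe_comp, Set.preimage_comp, Function.comp_apply]
      have e : (j : Spec A' → Spec A) ⁻¹' {j (g (genericPoint (Cyc90.cl x)))} = {g (genericPoint (Cyc90.cl x))} := by
        rw [← Set.image_singleton, Set.preimage_image_eq _ j.isClosedEmbedding.injective]
      rw [e]
    rw [← h1, hg, E4O.fdeg_comp_closedImmersion, Cyc90.clι_genericPoint]
  have hpr : ∀ y : Spec A', (y : PrimeSpectrum A').asIdeal.IsPrime := fun y => (y : PrimeSpectrum A').2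
  let alg : ∀ y : Spec A', Algebra A' ((Spec A').presheaf.stalk y) := fun y => StructureSheaf.stalkAlgebra _ y
  have hloc : ∀ y : Spec A', @IsLocalization.AtPrime A' _ ((Spec A').presheaf.stalk y) _ (alg y)
      (y : PrimeSpectrum A').asIdeal (hpr y) := fun y => StructureSheaf.IsLocalization.to_stalk _ y
  have huc : ∀ y : Spec A', CAlg.IsUniversallyCatenary ((Spec A').presheaf.stalk y) := fun y =>
    haveI := hloc y
    isUniversallyCatenary_localization hA' (y : PrimeSpectrum A').asIdeal.primeCompl _
  have hdim : topologicalKrullDim (Cyc90.cl x) = d := by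
    rw [← hd, ← Cyc90.range_clι x]
    exact IsHomeomorph.topologicalKrullDim_eq _
      (Homeomorph.isHomeomorph i.isClosedEmbedding.isEmbedding.toHomeomorph)
  rw [SchemeDimFormula.dim_eq_iSup_add g hη huc, hfd] at hdim
  let S : WithBot ℕ∞ := ⨆ y ∈ Set.range g, ringKrullDim ((Spec A').presheaf.stalk y)
  have hst : ∀ y : Spec A', ringKrullDim ((Spec A').presheaf.stalk y) = (y : PrimeSpectrum A').asIdeal.height :=
    fun y => haveI := hpr y; haveI := hloc y
      IsLocalization.AtPrime.ringKrullDim_eq_height (y : PrimeSpectrum A').asIdeal _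
  have hcs := coverSucc_of_domain (R := A') (hA'.2 A' inferInstance)
  have hsum : ∀ y : PrimeSpectrum A', ringKrullDim (A' ⧸ y.asIdeal) + y.asIdeal.height = a := fun y =>
    (EGA4H10.dim_quotient_add_height hcs y.asIdeal).trans ha
  have hleS : ∀ y : Spec A', ((y : PrimeSpectrum A').asIdeal.height : WithBot ℕ∞) ≤ a := fun y => by
    refine (Ideal.height_le_ringKrullDim_of_ne_top (y : PrimeSpectrum A').2.ne_top).trans_eq ?_
    exact ha
  have hclosed : j (IsLocalRing.closedPoint A') = IsLocalRing.closedPoint A := by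
    have : IsLocalHom π.hom := IsLocalHom.of_surjective _ Ideal.Quotient.mk_surjective
    exact IsLocalRing.comap_closedPoint π.hom
  refine ⟨fun ⟨z, hz, hfz⟩ => ?_, fun hno => ?_⟩
  · obtain ⟨w, rfl⟩ := (Cyc90.range_clι x).ge hz
    have hS : S = a := by
      refine le_antisymm (iSup₂_le fun y _ => (hst y).trans_le (hleS y)) ?_
      refine le_trans (le_of_eq ?_) (le_iSup₂ (f := fun y _ => ringKrullDim ((Spec A').presheaf.stalk y)) (g w) ⟨w, rfl⟩)
      rw [hst]
      have hgw : (g w : PrimeSpectrum A') = IsLocalRing.closedPoint A' := j.isClosedEmbedding.injective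
        ((hgj w).trans (hfz.trans hclosed.symm))
      rw [hgw, ← ha]
      exact (IsLocalRing.maximalIdeal_height_eq_ringKrullDim (R := A')).symm
    rw [show (⨆ y ∈ Set.range g, ringKrullDim ((Spec A').presheaf.stalk y)) = S from rfl, hS] at hdim
    exact_mod_cast hdim.symm
  · have hne : ∀ w, g w ≠ IsLocalRing.closedPoint A' := fun w e =>
      hno (i w) ((Cyc90.range_clι x).le ⟨w, rfl⟩) (by rw [← hgj, e, hclosed])
    have hht : ∀ w, ∃ k : ℕ, (g w : PrimeSpectrum A').asIdeal.height = k ∧ k + 1 ≤ a ∧
        (topologicalKrullDim ↥(closure ({g w} : Set (Spec A'))) ≤ 1 → k + 1 = a) := fun w => by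
      obtain ⟨k, hk⟩ := ENat.ne_top_iff_exists.1 (Ideal.height_ne_top (g w : PrimeSpectrum A').2.ne_top)
      have h1 := hsum (g w)
      rw [← hk] at h1
      obtain ⟨e, he⟩ : ∃ e : ℕ, ringKrullDim (A' ⧸ (g w : PrimeSpectrum A').asIdeal) = e := by
        cases h : ringKrullDim (A' ⧸ (g w : PrimeSpectrum A').asIdeal) using WithBot.recBotCoe with
        | bot => rw [h, WithBot.bot_add] at h1; exact absurd h1.symm WithBot.coe_ne_bot
        | coe e =>
          cases e using ENat.recTopCoe with
          | top => rw [h, ← WithBot.coe_add, top_add, ← WithBot.coe_natCast, WithBot.coe_inj] at h1; simp at h1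
          | coe e => exact ⟨e, rfl⟩
      rw [he] at h1
      have h2 : e + k = a := by exact_mod_cast h1
      have he0 : e ≠ 0 := fun h0 => by
        rw [h0, Nat.cast_zero] at he
        refine hne w (PrimeSpectrum.ext (IsLocalRing.eq_maximalIdeal ?_))
        have : Ring.KrullDimLE 0 (A' ⧸ (g w : PrimeSpectrum A').asIdeal) :=
          Ring.krullDimLE_iff.2 (by rw [he]; rfl)
        have := (g w : PrimeSpectrum A').2
        exact Ideal.Quotient.maximal_of_isField _ Ring.KrullDimLE.isField_of_isDomain
      refine ⟨k, hk.symm, by omega, fun hcl => ?_⟩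
      have hle : ((e : ℕ) : WithBot ℕ∞) ≤ 1 := by
        rw [← he, ← PrimeSpectrum.topologicalKrullDim_eq_ringKrullDim]
        refine le_trans (le_of_eq ?_) hcl
        rw [show closure ({g w} : Set (Spec A')) =
            PrimeSpectrum.zeroLocus ((g w : PrimeSpectrum A').asIdeal : Set A') from PrimeSpectrum.closure_singleton (g w : PrimeSpectrum A')]
        let q := Ideal.Quotient.mk (g w : PrimeSpectrum A').asIdeal
        have hr : Set.range (PrimeSpectrum.comap q) =
            PrimeSpectrum.zeroLocus ((g w : PrimeSpectrum A').asIdeal : Set A') := by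
          rw [range_comap_of_surjective _ q Ideal.Quotient.mk_surjective, Ideal.mk_ker]
        rw [← hr]
        exact IsHomeomorph.topologicalKrullDim_eq _ (Homeomorph.isHomeomorph
          (PrimeSpectrum.isClosedEmbedding_comap_of_surjective _ q Ideal.Quotient.mk_surjective).isEmbedding.toHomeomorph)
      have : e ≤ 1 := by exact_mod_cast hle
      omega
    have : IsLocallyNoetherian (Cyc90.cl x) := LocallyOfFiniteType.isLocallyNoetherian g
    obtain ⟨w₀, -, hw₀⟩ := SchemeTop.exists_isClosed_singleton (Cyc90.cl x) (Z := Set.univ) isClosed_univ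
      Set.univ_nonempty
    obtain ⟨k, hk, hka, hk1⟩ := hht w₀
    have hS : S = k := by
      refine le_antisymm (iSup₂_le fun y ⟨w, hw⟩ => ?_) ?_
      · subst hw
        obtain ⟨l, hl, hla, -⟩ := hht w
        have := hk1 (dim_closure_image_le_one g hw₀)
        rw [hst, hl]
        exact_mod_cast (by omega : l ≤ k)
      · refine le_trans (le_of_eq ?_) (le_iSup₂ (f := fun y _ => ringKrullDim ((Spec A').presheaf.stalk y)) (g w₀) ⟨w₀, rfl⟩)
        rw [hst, hk]
        rfl
    have := hk1 (dim_closure_image_le_one g hw₀)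
    rw [show (⨆ y ∈ Set.range g, ringKrullDim ((Spec A').presheaf.stalk y)) = S from rfl, hS] at hdim
    have hd' : d = k + E4O.fdeg f x := by exact_mod_cast hdim.symm
    omega

end Groth.Agent.EtCd93
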