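import Groth.Agent.Hensel20.CatenaryLimit
import Groth.Agent.Hensel20.StageFibre
import Groth.Agent.Hensel20.StageProps
import Groth.Agent.Henz21.Unique
import Groth.Agent.Cyc90.DimFormula
import Groth.Agent.EtCd93.DimDelta
import Groth.Agent.CAlg1.Regular
import Mathlib.RingTheory.Unramified.Finite

/-! Dimension of quotients of a strict henselization of a universally catenary local ring. -/

set_option autoImplicit false
universe u

open IsLocalRing Groth.Agent.Henz21 Groth.Agent.Hensel20

namespace Groth.Agent.EtCd93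

theorem dim_quotient_stage {O K : Type u} [CommRing O] [IsLocalRing O] [Field K] [Algebra O K]
    [IsLocalHom (algebraMap O K)] (hO : CAlg.IsUniversallyCatenary O) (i : Pt O K)
    (qi : Ideal (Stage i)) [qi.IsPrime] :
    ringKrullDim (Stage i ⧸ qi) = ringKrullDim (O ⧸ qi.comap (algebraMap O (Stage i))) := by
  have := hO.1
  let P0 : Ideal i.S := qi.comap (algebraMap i.S (Stage i))
  let p : Ideal O := qi.comap (algebraMap O (Stage i))
  have hP0 : P0 ≤ stagePrime i := by
    have h := Ideal.comap_mono (f := algebraMap i.S (Stage i)) (le_maximalIdeal (Ideal.IsPrime.ne_top ‹qi.IsPrime›))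
    exact h.trans_eq Localization.AtPrime.under_maximalIdeal
  have : P0.LiesOver p := ⟨by
    rw [Ideal.under_def, Ideal.comap_comap, ← IsScalarTower.algebraMap_eq]⟩
  have : IsDomain (O ⧸ p) := Ideal.Quotient.isDomain p
  have : IsLocalRing (O ⧸ p) := IsLocalRing.of_surjective' (Ideal.Quotient.mk p) Ideal.Quotient.mk_surjective
  let D := i.S ⧸ P0
  have : Algebra.FiniteType (O ⧸ p) D := Algebra.FiniteType.of_restrictScalars_finiteType O (O ⧸ p) D
  have hUC : CAlg.IsUniversallyCatenary (O ⧸ p) :=
    Ega11.UCDim.isUniversallyCatenary_of_surjective (Ideal.Quotient.mk p) Ideal.Quotient.mk_surjective hO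
  let N : Ideal D := (stagePrime i).map (Ideal.Quotient.mk P0)
  have hNc : N.comap (Ideal.Quotient.mk P0) = stagePrime i := by
    rw [Ideal.comap_map_of_surjective _ Ideal.Quotient.mk_surjective, ← RingHom.ker_eq_comap_bot,
      Ideal.mk_ker, sup_eq_left]
    exact hP0
  have hN : N.IsPrime := Ideal.map_isPrime_of_surjective Ideal.Quotient.mk_surjective (by rw [Ideal.mk_ker]; exact hP0)
  have : N.LiesOver (maximalIdeal (O ⧸ p)) := ⟨by
    refine Ideal.comap_injective_of_surjective (Ideal.Quotient.mk p) Ideal.Quotient.mk_surjective ?_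
    rw [Ideal.under_def, Ideal.comap_comap]
    have h1 : (algebraMap (O ⧸ p) D).comp (Ideal.Quotient.mk p) = (Ideal.Quotient.mk P0).comp (algebraMap O i.S) :=
      RingHom.ext fun _ => rfl
    rw [h1, ← Ideal.comap_comap, hNc, stagePrime_comap]
    have : IsLocalHom (Ideal.Quotient.mk p) := IsLocalHom.of_surjective _ Ideal.Quotient.mk_surjective
    exact IsLocalRing.maximalIdeal_comap (Ideal.Quotient.mk p)⟩
  have hmap : P0.map (algebraMap i.S (Stage i)) = qi := IsLocalization.map_under (stagePrime i).primeCompl _ qi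
  have hdim : ringKrullDim (Stage i ⧸ qi) = N.height := by
    rw [← hmap]
    have hM : Algebra.algebraMapSubmonoid (i.S ⧸ P0) (stagePrime i).primeCompl = N.primeCompl := by
      ext x
      obtain ⟨s, rfl⟩ := Ideal.Quotient.mk_surjective x
      constructor
      · rintro ⟨t, ht, hts⟩ hs
        exact ht (hNc ▸ (show Ideal.Quotient.mk P0 t ∈ N from hts ▸ hs) : t ∈ stagePrime i)
      · intro hs
        exact ⟨s, fun h => hs (Ideal.mem_map_of_mem _ h), rfl⟩
    have : IsLocalization.AtPrime (Stage i ⧸ P0.map (algebraMap i.S (Stage i))) N := by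
      show IsLocalization N.primeCompl _
      rw [← hM]
      infer_instance
    exact IsLocalization.AtPrime.ringKrullDim_eq_height N _
  -- algebraicity
  let L := FractionRing D
  let K0 := FractionRing (O ⧸ p)
  have hinj : Function.Injective (algebraMap (O ⧸ p) D) := Ideal.algebraMap_quotient_injective
  have : FaithfulSMul (O ⧸ p) D := (faithfulSMul_iff_algebraMap_injective _ _).2 hinj
  let : Algebra K0 L := FractionRing.liftAlgebra (O ⧸ p) L
  have hscal : Algebra.IsAlgebraic (O ⧸ p) D := by
    have : Algebra.FormallyUnramified O D :=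
      Algebra.FormallyUnramified.comp O i.S D
    have : Algebra.FormallyUnramified (O ⧸ p) D := Algebra.FormallyUnramified.of_restrictScalars O _ _
    have : Algebra.FormallyUnramified (O ⧸ p) L := Algebra.FormallyUnramified.comp (O ⧸ p) D L
    have : Algebra.FormallyUnramified K0 L := Algebra.FormallyUnramified.of_restrictScalars (O ⧸ p) _ _
    have : Algebra.EssFiniteType (O ⧸ p) L := Algebra.EssFiniteType.comp (O ⧸ p) D L
    have : Algebra.EssFiniteType K0 L := Algebra.EssFiniteType.of_comp (O ⧸ p) K0 L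
    have : Module.Finite K0 L := Algebra.FormallyUnramified.finite_of_free K0 L
    have : Algebra.IsAlgebraic K0 L := Algebra.IsAlgebraic.of_finite _ _
    have : Algebra.IsAlgebraic (O ⧸ p) L := (IsFractionRing.comap_isAlgebraic_iff (K := K0)).2 this
    exact Algebra.IsAlgebraic.of_injective (IsScalarTower.toAlgHom (O ⧸ p) D L) (IsFractionRing.injective D L)
  have hres : Algebra.IsAlgebraic ((O ⧸ p) ⧸ maximalIdeal (O ⧸ p)) (D ⧸ N) := by
    let := Ideal.Quotient.field (maximalIdeal (O ⧸ p))
    have : Algebra.FormallyUnramified O (D ⧸ N) := by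
      have : Algebra.FormallyUnramified O D := Algebra.FormallyUnramified.comp O i.S D
      exact Algebra.FormallyUnramified.comp O D (D ⧸ N)
    have : Algebra.FormallyUnramified (O ⧸ p) (D ⧸ N) := Algebra.FormallyUnramified.of_restrictScalars O _ _
    have : Algebra.FormallyUnramified ((O ⧸ p) ⧸ maximalIdeal (O ⧸ p)) (D ⧸ N) :=
      Algebra.FormallyUnramified.of_restrictScalars (O ⧸ p) _ _
    have : Algebra.FiniteType (O ⧸ p) (D ⧸ N) := inferInstance
    have : Algebra.FiniteType ((O ⧸ p) ⧸ maximalIdeal (O ⧸ p)) (D ⧸ N) :=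
      Algebra.FiniteType.of_restrictScalars_finiteType (O ⧸ p) _ _
    have : Module.Finite ((O ⧸ p) ⧸ maximalIdeal (O ⧸ p)) (D ⧸ N) :=
      Algebra.FormallyUnramified.finite_of_free _ _
    exact Algebra.IsAlgebraic.of_finite _ _
  have h := Cyc90.height_add_trdeg_eq (O ⧸ p) hUC D (maximalIdeal (O ⧸ p)) N
  rw [trdeg_eq_zero, trdeg_eq_zero, add_zero, add_zero] at h
  rw [hdim, Cardinal.ofENat_inj.1 h, maximalIdeal_height_eq_ringKrullDim]

theorem dim_quotient_H {O K : Type u} [CommRing O] [IsLocalRing O] [Field K] [Algebra O K]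
    [IsLocalHom (algebraMap O K)] (hO : CAlg.IsUniversallyCatenary O) (q : Ideal (H O K)) [q.IsPrime] :
    ringKrullDim (H O K ⧸ q) = ringKrullDim (O ⧸ q.comap (algebraMap O (H O K))) := by
  have := hO.1
  have := isNoetherianRing_H (R := O) (K := K)
  obtain ⟨s, hs⟩ := q.fg_of_isNoetherianRing
  obtain ⟨i, hi⟩ := exists_stage s id
  let qi : Ideal (Stage i) := q.comap (algebraMap (Stage i) (H O K))
  have hq : qi.map (algebraMap (Stage i) (H O K)) = q := by
    refine le_antisymm Ideal.map_comap_le ?_
    conv_lhs => rw [← hs]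
    refine Ideal.span_le.2 fun x hx => ?_
    obtain ⟨y, hy⟩ := hi x hx
    have hy' : algebraMap (Stage i) (H O K) y = x := hy
    rw [← hy']
    exact Ideal.mem_map_of_mem _ (show algebraMap (Stage i) (H O K) y ∈ q from hy' ▸ hs ▸ Ideal.subset_span hx)
  have hc : qi.comap (algebraMap O (Stage i)) = q.comap (algebraMap O (H O K)) := by
    rw [Ideal.comap_comap, ← IsScalarTower.algebraMap_eq]
  rw [← hc, ← dim_quotient_stage hO i qi]
  have hA : IsNoetherianRing (Stage i) := stage_noetherian i
  have : IsLocalRing (Stage i ⧸ qi) := IsLocalRing.of_surjective' (Ideal.Quotient.mk qi) Ideal.Quotient.mk_surjective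
  have : IsLocalRing (H O K ⧸ q) := IsLocalRing.of_surjective' (Ideal.Quotient.mk q) Ideal.Quotient.mk_surjective
  have : q.LiesOver qi := ⟨rfl⟩
  have : Module.Flat (Stage i ⧸ qi) (H O K ⧸ (qi • ⊤ : Submodule (Stage i) (H O K))) :=
    flat_quotient_of_bijective_mod (Stage i) (H O K) (H O K) qi (fun c => ⟨c, by simp⟩) fun h hh => hh
  have hflat : Module.Flat (Stage i ⧸ qi) (H O K ⧸ q) := by
    refine Module.Flat.of_linearEquiv
      (LinearEquiv.extendScalarsOfSurjective Ideal.Quotient.mk_surjective ?_ :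
        (H O K ⧸ q) ≃ₗ[Stage i ⧸ qi] H O K ⧸ (qi • ⊤ : Submodule (Stage i) (H O K)))
    exact Submodule.quotEquivOfEq (q.restrictScalars (Stage i)) (qi • ⊤ : Submodule (Stage i) (H O K))
      (by rw [Ideal.smul_top_eq_map, hq])
  have hcomm : (algebraMap (Stage i ⧸ qi) (H O K ⧸ q)).comp (Ideal.Quotient.mk qi) =
      (Ideal.Quotient.mk q).comp (algebraMap (Stage i) (H O K)) := RingHom.ext fun _ => rfl
  have hlm : ((maximalIdeal (Stage i ⧸ qi)).map (algebraMap (Stage i ⧸ qi) (H O K ⧸ q))) = maximalIdeal (H O K ⧸ q) := by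
    rw [← IsLocalRing.map_maximalIdeal_of_surjective _ (Ideal.Quotient.mk_surjective (I := qi)),
      Ideal.map_map, hcomm, ← Ideal.map_map, stage_map_maximalIdeal_H,
      IsLocalRing.map_maximalIdeal_of_surjective _ Ideal.Quotient.mk_surjective]
  have : IsLocalHom (algebraMap (Stage i ⧸ qi) (H O K ⧸ q)) :=
    ((IsLocalRing.local_hom_TFAE _).out 0 2).2 hlm.le
  exact CAlg1.ringKrullDim_eq_of_flat hlm

theorem dim_quotient_strictHenselization {O R : Type u} [CommRing O] [IsLocalRing O]
    [CommRing R] [IsLocalRing R] [Algebra O R] [IsLocalHom (algebraMap O R)] [Hensel.IsStrictHenselization O R]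
    (hO : CAlg.IsUniversallyCatenary O) (P : Ideal R) [P.IsPrime] :
    ringKrullDim (R ⧸ P) = ringKrullDim (O ⧸ P.comap (algebraMap O R)) := by
  let e := Henz21.strictHenselizationEquiv (R := O) R
  let q : Ideal (Henz21.StrictHenselization O) := P.comap e.toRingEquiv.toRingHom
  have : q.IsPrime := Ideal.comap_isPrime _ P
  have h := dim_quotient_H hO q
  have h1 : q.comap (algebraMap O _) = P.comap (algebraMap O R) := by
    rw [Ideal.comap_comap]
    exact congrArg (P.comap ·) (RingHom.ext fun x => e.commutes x)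
  rw [h1] at h
  rw [← h]
  exact (ringKrullDim_eq_of_ringEquiv (Ideal.quotientEquiv q P e.toRingEquiv
    (Ideal.map_comap_of_surjective _ e.surjective P).symm)).symm

end Groth.Agent.EtCd93
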