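import Groth.Agent.Henz21.LocalLift
import Groth.Prelude.Def_Hensel
import Mathlib.FieldTheory.SeparableClosure
import Mathlib.FieldTheory.IsSepClosed
import Mathlib.RingTheory.AlgebraicIndependent.TranscendenceBasis
import Mathlib.RingTheory.Etale.Field
import Mathlib.RingTheory.TensorProduct.MvPolynomial
import Mathlib.RingTheory.FiniteType

/-!
A strict henselization at a point of a scheme of finite type over a field is one at a closed point of
a scheme of finite type over a separably closed field.
-/

set_option autoImplicit false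
universe u v w

open IsLocalRing
open scoped TensorProduct

namespace Groth.Agent.EtCd93

/-- A separable point of the residue field of a henselian local algebra over a field lifts uniquely. -/
theorem existsUnique_lift_separable {K : Type u} {K' : Type v} {T : Type w} [Field K] [Field K'] [Algebra K K']
    [Algebra.IsSeparable K K'] [CommRing T] [HenselianLocalRing T] [Algebra K T]
    (σ : K' →ₐ[K] ResidueField T) :
    ∃! g : K' →ₐ[K] T, (IsScalarTower.toAlgHom K T (ResidueField T)).comp g = σ := by
  classical
  let π := IsScalarTower.toAlgHom K T (ResidueField T)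
  have key : ∀ E : IntermediateField K K', FiniteDimensional K E →
      ∃! g : E →ₐ[K] T, π.comp g = σ.comp E.val := fun E hE => by
    have : Algebra.IsSeparable K E := inferInstance
    have : Algebra.FormallyEtale K E := Algebra.FormallyEtale.of_isSeparable K E
    have : Algebra.FinitePresentation K E :=
      Algebra.FinitePresentation.of_finiteType.1 (inferInstance : Algebra.FiniteType K E)
    have : Algebra.Etale K E := { }
    exact Henz21.existsUnique_lift (σ.comp E.val)
  have hfin : ∀ a : K', FiniteDimensional K (IntermediateField.adjoin K {a}) := fun a =>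
    IntermediateField.adjoin.finiteDimensional (Algebra.IsIntegral.isIntegral a)
  choose g hg huniq using fun a => key _ (hfin a)
  let φ : K' → T := fun a => g a ⟨a, IntermediateField.mem_adjoin_simple_self K a⟩
  have hE : ∀ (E : IntermediateField K K') (hEf : FiniteDimensional K E) (h : E →ₐ[K] T),
      π.comp h = σ.comp E.val → ∀ (a : K') (ha : a ∈ E), φ a = h ⟨a, ha⟩ := by
    intro E hEf h hh a ha
    have hle : IntermediateField.adjoin K {a} ≤ E := IntermediateField.adjoin_simple_le_iff.2 ha
    have := huniq a (h.comp (IntermediateField.inclusion hle))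
      (AlgHom.ext fun z => DFunLike.congr_fun hh (IntermediateField.inclusion hle z))
    exact DFunLike.congr_fun this.symm ⟨a, IntermediateField.mem_adjoin_simple_self K a⟩
  have pair : ∀ a b : K', ∃ E : IntermediateField K K', FiniteDimensional K E ∧ a ∈ E ∧ b ∈ E := fun a b =>
    haveI := hfin a; haveI := hfin b
    ⟨_, IntermediateField.finiteDimensional_sup (IntermediateField.adjoin K {a}) (IntermediateField.adjoin K {b}),
      le_sup_left (a := IntermediateField.adjoin K {a}) (IntermediateField.mem_adjoin_simple_self K a),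
      le_sup_right (b := IntermediateField.adjoin K {b}) (IntermediateField.mem_adjoin_simple_self K b)⟩
  have hadd : ∀ a b, φ (a + b) = φ a + φ b := fun a b => by
    obtain ⟨E, hEf, ha, hb⟩ := pair a b
    obtain ⟨h, hh, -⟩ := key E hEf
    rw [hE E hEf h hh a ha, hE E hEf h hh b hb, hE E hEf h hh _ (add_mem ha hb), ← map_add]
    rfl
  have hmul : ∀ a b, φ (a * b) = φ a * φ b := fun a b => by
    obtain ⟨E, hEf, ha, hb⟩ := pair a b
    obtain ⟨h, hh, -⟩ := key E hEf
    rw [hE E hEf h hh a ha, hE E hEf h hh b hb, hE E hEf h hh _ (mul_mem ha hb), ← map_mul]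
    rfl
  have halg : ∀ c : K, φ (algebraMap K K' c) = algebraMap K T c := fun c =>
    (g _).commutes c
  let G : K' →ₐ[K] T :=
    { toFun := φ
      map_one' := by simpa using halg 1
      map_mul' := hmul
      map_zero' := by simpa using halg 0
      map_add' := hadd
      commutes' := halg }
  refine ⟨G, AlgHom.ext fun a => DFunLike.congr_fun (hg a) ⟨a, IntermediateField.mem_adjoin_simple_self K a⟩,
    fun G' hG' => AlgHom.ext fun a => ?_⟩
  exact DFunLike.congr_fun (huniq a (G'.comp (IntermediateField.adjoin K {a}).val)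
    (AlgHom.ext fun z => DFunLike.congr_fun hG' z.1)) ⟨a, IntermediateField.mem_adjoin_simple_self K a⟩

theorem exists_closed_model {k : Type u} [Field k] (B : Type u) [CommRing B] [Algebra k B]
    [Algebra.FiniteType k B] (q : Ideal B) [q.IsPrime] (O : Type u) [CommRing O] [IsLocalRing O] [Algebra B O]
    [IsLocalization.AtPrime O q] (A : Type u) [CommRing A] [IsLocalRing A] [Algebra O A]
    [IsLocalHom (algebraMap O A)] [hA : Hensel.IsStrictHenselization O A] :
    ∃ (k' : Type u) (_ : Field k') (_ : IsSepClosed k') (B' : Type u) (_ : CommRing B') (_ : Algebra k' B')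
      (_ : Algebra.FiniteType k' B') (n : Ideal B') (_ : n.IsMaximal),
      ∀ (L : Type u) [CommRing L] [IsLocalRing L] [Algebra B' L] [IsLocalization.AtPrime L n],
        ∃ (_ : Algebra L A) (_ : IsLocalHom (algebraMap L A)), Hensel.IsStrictHenselization L A := by
  have := hA.henselian
  have := hA.isSepClosure
  have : IsSepClosed (ResidueField A) := IsSepClosure.sep_closed (ResidueField O)
  let ι : B →+* A := (algebraMap O A).comp (algebraMap B O)
  let res : B →+* ResidueField A := (residue A).comp ι
  have hres : RingHom.ker res = q := by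
    ext b
    rw [RingHom.mem_ker, RingHom.comp_apply, residue_eq_zero_iff, RingHom.comp_apply, mem_maximalIdeal,
      mem_nonunits_iff, isUnit_map_iff, ← mem_nonunits_iff, ← mem_maximalIdeal]
    exact IsLocalization.AtPrime.to_map_mem_maximal_iff O q b
  -- a transcendence basis of the residue field, made of global sections
  let C := B ⧸ q
  have : Algebra.FiniteType k C := Algebra.FiniteType.of_surjective (Ideal.Quotient.mkₐ k q) Ideal.Quotient.mk_surjective
  have : FaithfulSMul k C := (faithfulSMul_iff_algebraMap_injective k C).2 (algebraMap k C).injective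
  obtain ⟨κ, y, hy⟩ := exists_isTranscendenceBasis' k C
  have : Finite κ := Cardinal.lt_aleph0_iff_finite.1 (hy.cardinalMk_eq_trdeg.trans_lt trdeg_lt_aleph0_of_finiteType)
  choose t ht using fun i => Ideal.Quotient.mk_surjective (y i)
  let P := MvPolynomial κ k
  let ψ : P →ₐ[k] B := MvPolynomial.aeval t
  let resC : C →+* ResidueField A := Ideal.Quotient.lift q res fun b hb => RingHom.mem_ker.1 (hres.ge hb)
  have hresC : Function.Injective resC := by
    refine (RingHom.injective_iff_ker_eq_bot resC).2 (le_bot_iff.1 fun c hc => ?_)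
    obtain ⟨b, rfl⟩ := Ideal.Quotient.mk_surjective c
    exact Ideal.mem_bot.2 (Ideal.Quotient.eq_zero_iff_mem.2 (hres.le hc))
  have hψy : ∀ p, Ideal.Quotient.mk q (ψ p) = MvPolynomial.aeval y p := fun p => by
    have e : (Ideal.Quotient.mkₐ k q).comp ψ = MvPolynomial.aeval y := by
      ext i; simp [ψ, ht]
    exact DFunLike.congr_fun e p
  have hinj : ∀ p : P, p ≠ 0 → IsUnit (ι (ψ p)) := fun p hp => by
    by_contra h
    refine hp (hy.1 (hresC ?_))
    rw [← hψy, map_zero]
    exact ((residue_eq_zero_iff _).2 h).trans (map_zero resC).symm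
  let Kt := FractionRing P
  let φ0 : Kt →+* A := IsLocalization.lift (M := nonZeroDivisors P) (g := ι.comp ψ.toRingHom)
    fun p => hinj p.1 (nonZeroDivisors.ne_zero p.2)
  let : Algebra Kt A := φ0.toAlgebra
  let : Algebra P B := ψ.toRingHom.toAlgebra
  let : Algebra P A := (ι.comp ψ.toRingHom).toAlgebra
  have : IsScalarTower P Kt A := IsScalarTower.of_algebraMap_eq fun p => (IsLocalization.lift_eq _ p).symm
  obtain ⟨k', _, _, _, hk', ⟨σ₀⟩⟩ : ∃ (K' : Type u) (_ : Field K') (_ : Algebra Kt K')
      (_ : Algebra.IsSeparable Kt K') (_ : IsSepClosed K'), Nonempty (K' →ₐ[Kt] ResidueField A) :=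
    ⟨SeparableClosure Kt, inferInstance, inferInstance, inferInstance, inferInstance, ⟨IsSepClosed.lift⟩⟩
  obtain ⟨γ, hγ, -⟩ := existsUnique_lift_separable (T := A) σ₀
  have hγr : ∀ a, residue A (γ a) = σ₀ a := fun a => DFunLike.congr_fun hγ a
  let : Algebra P k' := ((algebraMap Kt k').comp (algebraMap P Kt)).toAlgebra
  let : Algebra k' (ResidueField A) := σ₀.toRingHom.toAlgebra
  let B' := k' ⊗[P] B
  let γP : k' →ₐ[P] A := { γ.toRingHom with
    commutes' := fun p => (γ.commutes (algebraMap P Kt p)).trans (IsLocalization.lift_eq _ p) }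
  let ιP : B →ₐ[P] A := { ι with commutes' := fun p => rfl }
  let Φ : B' →ₐ[P] A := Algebra.TensorProduct.productMap γP ιP
  have hΦ : ∀ a b, Φ (a ⊗ₜ[P] b) = γ a * ι b := fun a b => Algebra.TensorProduct.productMap_apply_tmul γP ιP a b
  have hΦr : ∀ b, Φ (1 ⊗ₜ[P] b) = ι b := fun b => by rw [hΦ, map_one, one_mul]
  have hΦl : ∀ a, Φ (a ⊗ₜ[P] 1) = γ a := fun a => by rw [hΦ, map_one, mul_one]
  let n : Ideal B' := (maximalIdeal A).comap Φ.toRingHom
  have hnp : n.IsPrime := Ideal.comap_isPrime _ _
  have hft : Algebra.FiniteType k' B' := by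
    let : Algebra k B' := ((algebraMap P B').comp (algebraMap k P)).toAlgebra
    have : IsScalarTower k P B := IsScalarTower.of_algebraMap_eq fun c => (ψ.commutes c).symm
    have : Algebra.FiniteType P B := Algebra.FiniteType.of_restrictScalars_finiteType k P B
    exact Algebra.FiniteType.baseChange k'
  have hmax : n.IsMaximal := by
    let rk : B' →ₐ[k'] ResidueField A :=
      { (residue A).comp Φ.toRingHom with
        commutes' := fun a => by
          show residue A (Φ (a ⊗ₜ[P] 1)) = σ₀ a
          rw [hΦl, hγr] }
    have hbase : ∀ b : B, IsIntegral k' (res b) := fun b => by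
      refine IsAlgebraic.isIntegral ?_
      let L := Algebra.adjoin k (Set.range y)
      have h0 : IsAlgebraic L (Ideal.Quotient.mk q b) := hy.isAlgebraic.isAlgebraic _
      have hL : ∀ z : L, ∃ p : P, MvPolynomial.aeval y p = (z : C) := fun z => by
        have hz := z.2
        have hmem : (z : C) ∈ Algebra.adjoin k (Set.range y) := hz
        rw [Algebra.adjoin_range_eq_range_aeval] at hmem
        exact hmem
      choose pz hpz using hL
      let e : L ≃ₐ[k] P := hy.1.aevalEquiv.symm
      let ψL : L →+* k' := (algebraMap P k').comp e.toRingHom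
      refine h0.ringHom_of_comp_eq ψL resC ?_ ?_
      · exact (algebraMap Kt k').injective.comp ((IsFractionRing.injective P Kt).comp e.injective)
      · refine RingHom.ext fun z => ?_
        obtain ⟨p, rfl⟩ := hy.1.aevalEquiv.surjective z
        show σ₀ (algebraMap P k' (e (hy.1.aevalEquiv p))) = resC (hy.1.aevalEquiv p : C)
        have h1 : ((hy.1.aevalEquiv p : L) : C) = MvPolynomial.aeval y p := hy.1.algebraMap_aevalEquiv p
        rw [h1, ← hψy, AlgEquiv.symm_apply_apply]
        exact (σ₀.commutes (algebraMap P Kt p)).trans (congrArg (residue A) (IsLocalization.lift_eq _ p))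
    have hint : ∀ z : B', IsIntegral k' (rk z) := fun z => by
      induction z using TensorProduct.induction_on with
      | zero => rw [map_zero]; exact isIntegral_zero
      | tmul a b =>
        have : rk (a ⊗ₜ[P] b) = algebraMap k' (ResidueField A) a * res b := by
          show residue A (Φ (a ⊗ₜ[P] b)) = σ₀ a * res b
          rw [hΦ, map_mul, hγr]
          rfl
        rw [this]
        exact isIntegral_algebraMap.mul (hbase b)
      | add a b ha hb => rw [map_add]; exact ha.add hb
    have hker : RingHom.ker rk = n := by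
      ext z
      show residue A (Φ z) = 0 ↔ _
      rw [residue_eq_zero_iff]
      rfl
    have : Algebra.IsIntegral k' (B' ⧸ n) := ⟨fun c => by
      obtain ⟨z, rfl⟩ := Ideal.Quotient.mk_surjective c
      let rq : (B' ⧸ n) →ₐ[k'] ResidueField A := Ideal.Quotient.liftₐ n rk fun z hz => RingHom.mem_ker.1 (hker.ge hz)
      refine (isIntegral_algHom_iff rq ?_).1 (hint z)
      refine (RingHom.injective_iff_ker_eq_bot rq.toRingHom).2 (le_bot_iff.1 fun c hc => ?_)
      obtain ⟨w, rfl⟩ := Ideal.Quotient.mk_surjective c
      exact Ideal.mem_bot.2 (Ideal.Quotient.eq_zero_iff_mem.2 (hker.le hc))⟩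
    have : IsDomain (B' ⧸ n) := Ideal.Quotient.isDomain n
    exact Ideal.Quotient.maximal_of_isField n (isField_of_isIntegral_of_isField' (Field.toIsField k'))
  refine ⟨k', inferInstance, hk', B', inferInstance, inferInstance, hft, n, hmax, fun L _ _ _ _ => ?_⟩
  let ΦL : L →+* A := IsLocalization.lift (M := n.primeCompl) (g := Φ.toRingHom) fun s =>
    notMem_maximalIdeal.1 s.2
  let : Algebra L A := ΦL.toAlgebra
  have hΦL : ∀ z, algebraMap L A (algebraMap B' L z) = Φ z := fun z => IsLocalization.lift_eq _ z
  have hloc : IsLocalHom (algebraMap L A) := ⟨fun l hl => by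
    obtain ⟨⟨b, s⟩, hbs⟩ := IsLocalization.surj n.primeCompl l
    have h1 : IsUnit (algebraMap L A (algebraMap B' L b)) := by
      rw [← hbs, map_mul]
      exact hl.mul ((IsLocalization.map_units L s).map _)
    rw [hΦL] at h1
    have h2 : IsUnit (algebraMap B' L b) := IsLocalization.map_units L (⟨b, notMem_maximalIdeal.2 h1⟩ : n.primeCompl)
    rw [← hbs] at h2
    exact isUnit_of_mul_isUnit_left h2⟩
  refine ⟨ΦL.toAlgebra, hloc, ?_⟩
  -- the map from the original local ring
  let incB : B →+* B' := (Algebra.TensorProduct.includeRight : B →ₐ[P] B').toRingHom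
  let θ : O →+* L := IsLocalization.lift (M := q.primeCompl) (g := (algebraMap B' L).comp incB) fun s => by
    refine IsLocalization.map_units L (⟨incB s.1, fun h => ?_⟩ : n.primeCompl)
    have h' : ι s.1 ∈ maximalIdeal A := (hΦr s.1) ▸ h
    exact s.2 (hres.le ((residue_eq_zero_iff _).2 h'))
  have hθA : (algebraMap L A).comp θ = algebraMap O A := IsLocalization.ringHom_ext q.primeCompl (RingHom.ext fun b => by
    show algebraMap L A (θ (algebraMap B O b)) = algebraMap O A (algebraMap B O b)
    rw [IsLocalization.lift_eq, RingHom.comp_apply, hΦL]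
    exact hΦr b)
  have hθ : IsLocalHom θ := ⟨fun x hx => isUnit_of_map_unit (algebraMap O A) x (by
    rw [← hθA]; exact hx.map (algebraMap L A))⟩
  let : Algebra (ResidueField O) (ResidueField L) := (ResidueField.map θ).toAlgebra
  have : IsScalarTower (ResidueField O) (ResidueField L) (ResidueField A) := IsScalarTower.of_algebraMap_eq' (by
    refine RingHom.ext fun x => ?_
    obtain ⟨r, rfl⟩ := residue_surjective x
    exact congrArg (residue A) (DFunLike.congr_fun hθA r).symm)
  have : Algebra.IsSeparable (ResidueField O) (ResidueField A) := IsSepClosure.separable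
  refine
    { henselian := inferInstance
      isSepClosure := ⟨inferInstance, Algebra.isSeparable_tower_top_of_isSeparable (ResidueField O) (ResidueField L) (ResidueField A)⟩
      universal := fun T _ _ f _ τ hτ => ?_ }
  have : IsLocalHom (f.comp θ) := RingHom.isLocalHom_comp f θ
  have hτ' : τ.comp (ResidueField.map (algebraMap O A)) = ResidueField.map (f.comp θ) := by
    refine RingHom.ext fun x => ?_
    obtain ⟨r, rfl⟩ := residue_surjective x
    show τ (residue A (algebraMap O A r)) = residue T (f (θ r))
    rw [← hθA]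
    exact DFunLike.congr_fun hτ (residue L (θ r))
  obtain ⟨g, ⟨hg, hgτ⟩, hu⟩ := hA.universal T (f.comp θ) τ hτ'
  refine ⟨g, ⟨?_, hgτ⟩, fun g' hg' => hu g' ⟨?_, hg'.2⟩⟩
  · refine IsLocalization.ringHom_ext n.primeCompl ?_
    have hB : ∀ b : B, g (Φ (1 ⊗ₜ[P] b)) = f (algebraMap B' L (1 ⊗ₜ[P] b)) := fun b => by
      rw [hΦr]
      refine (DFunLike.congr_fun hg (algebraMap B O b)).trans ?_
      exact congrArg f (IsLocalization.lift_eq _ b)
    let h₁ : k' →+* T := g.comp γ.toRingHom
    let h₂ : k' →+* T := f.comp ((algebraMap B' L).comp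
      (Algebra.TensorProduct.includeLeftRingHom : k' →+* B'))
    let : Algebra Kt T := (h₂.comp (algebraMap Kt k')).toAlgebra
    have hK : h₁.comp (algebraMap Kt k') = h₂.comp (algebraMap Kt k') :=
      IsLocalization.ringHom_ext (nonZeroDivisors P) (RingHom.ext fun p => by
        have e1 : γ (algebraMap P k' p) = ι (ψ p) :=
          (γ.commutes (algebraMap P Kt p)).trans (IsLocalization.lift_eq _ p)
        have e2 : (algebraMap P k' p) ⊗ₜ[P] (1 : B) = (1 : k') ⊗ₜ[P] (ψ p) := by
          rw [Algebra.algebraMap_eq_smul_one, TensorProduct.smul_tmul, Algebra.smul_def, mul_one]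
          rfl
        show g (γ (algebraMap P k' p)) = f (algebraMap B' L ((algebraMap P k' p) ⊗ₜ[P] (1 : B)))
        rw [e1, e2, ← hΦr]
        exact hB (ψ p))
    let σ : k' →ₐ[Kt] ResidueField T :=
      { (residue T).comp h₂ with commutes' := fun c => rfl }
    obtain ⟨g₀, -, hg₀⟩ := existsUnique_lift_separable (T := T) σ
    have e : h₁ = h₂ := by
      have a1 := hg₀ { h₁ with commutes' := fun c => DFunLike.congr_fun hK c } (AlgHom.ext fun a => by
        show residue T (g (γ a)) = residue T (f (algebraMap B' L (a ⊗ₜ[P] (1 : B))))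
        rw [hgτ, ← hΦl, ← hΦL]
        exact DFunLike.congr_fun hτ (residue L _))
      have a2 := hg₀ { h₂ with commutes' := fun c => rfl } (AlgHom.ext fun a => rfl)
      exact RingHom.ext fun a => DFunLike.congr_fun (a1.trans a2.symm) a
    refine RingHom.ext fun z => ?_
    show g (algebraMap L A (algebraMap B' L z)) = f (algebraMap B' L z)
    rw [hΦL]
    induction z using TensorProduct.induction_on with
    | zero => simp
    | tmul a b =>
      have hab : a ⊗ₜ[P] b = (a ⊗ₜ[P] (1 : B)) * ((1 : k') ⊗ₜ[P] b) := by
        rw [Algebra.TensorProduct.tmul_mul_tmul, mul_one, one_mul]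
      rw [hab, map_mul, map_mul, map_mul, map_mul, hB, hΦl]
      exact congrArg (· * _) (DFunLike.congr_fun e a)
    | add a b ha hb => rw [map_add, map_add, map_add, map_add, ha, hb]
  · rw [← hθA, ← RingHom.comp_assoc, hg'.1]

end Groth.Agent.EtCd93
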