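import Groth.Agent.EtCd93.StrictClosed
import Groth.Agent.Strict24.SHDvr
import Groth.Agent.Henz21.StrictMap
import Groth.Agent.S0537
import Mathlib.RingTheory.DiscreteValuationRing.TFAE
import Mathlib.RingTheory.Polynomial.Quotient

/-!
A strict henselization at a point of the closed fibre of a scheme of finite type over a discrete
valuation ring is one at a closed point over a strictly henselian discrete valuation ring.
-/

set_option autoImplicit false
universe u

open IsLocalRing
open scoped TensorProduct

namespace Groth.Agent.EtCd93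

theorem exists_closed_model_dvr {R : Type u} [CommRing R] [IsDomain R] [IsDiscreteValuationRing R]
    (B : Type u) [CommRing B] [Algebra R B] [Algebra.FiniteType R B] (q : Ideal B) [q.IsPrime]
    (hq : maximalIdeal R ≤ q.comap (algebraMap R B))
    (O : Type u) [CommRing O] [IsLocalRing O] [Algebra B O] [IsLocalization.AtPrime O q] (A : Type u) [CommRing A]
    [IsLocalRing A] [Algebra O A] [IsLocalHom (algebraMap O A)] [hA : Hensel.IsStrictHenselization O A] :
    ∃ (R' : Type u) (_ : CommRing R') (_ : IsDomain R') (_ : IsDiscreteValuationRing R') (_ : HenselianLocalRing R')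
      (_ : IsSepClosed (ResidueField R'))
      (B' : Type u) (_ : CommRing B') (_ : Algebra R' B') (_ : Algebra.FiniteType R' B') (n : Ideal B')
      (_ : n.IsMaximal) (_ : n.comap (algebraMap R' B') = maximalIdeal R'),
      ∀ (L : Type u) [CommRing L] [IsLocalRing L] [Algebra B' L] [IsLocalization.AtPrime L n],
        ∃ (_ : Algebra L A) (_ : IsLocalHom (algebraMap L A)), Hensel.IsStrictHenselization L A := by
  have := hA.henselian
  have := hA.isSepClosure
  have : IsSepClosed (ResidueField A) := IsSepClosure.sep_closed (ResidueField O)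
  let ι : B →+* A := (algebraMap O A).comp (algebraMap B O)
  let res : B →+* ResidueField A := (residue A).comp ι
  have hres : RingHom.ker res = q := by
    ext b
    rw [RingHom.mem_ker, RingHom.comp_apply, residue_eq_zero_iff, RingHom.comp_apply, mem_maximalIdeal,
      mem_nonunits_iff, isUnit_map_iff, ← mem_nonunits_iff, ← mem_maximalIdeal]
    exact IsLocalization.AtPrime.to_map_mem_maximal_iff O q b
  -- a transcendence basis of the residue field, made of global sections
  let k := ResidueField R
  let C := B ⧸ q
  let aR : R →+* C := (Ideal.Quotient.mk q).comp (algebraMap R B)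
  let ak : k →+* C := Ideal.Quotient.lift (maximalIdeal R) aR fun r hr =>
    Ideal.Quotient.eq_zero_iff_mem.2 (hq hr)
  let _ : Algebra k C := ak.toAlgebra
  have hak : ∀ r : R, algebraMap k C (residue R r) = aR r := fun r => rfl
  have : IsScalarTower R k C := IsScalarTower.of_algebraMap_eq fun r => rfl
  have : Algebra.FiniteType R C := Algebra.FiniteType.of_surjective (Ideal.Quotient.mkₐ R q) Ideal.Quotient.mk_surjective
  have : Algebra.FiniteType k C := Algebra.FiniteType.of_restrictScalars_finiteType R k C
  have : FaithfulSMul k C := (faithfulSMul_iff_algebraMap_injective k C).2 (algebraMap k C).injective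
  obtain ⟨κ, y, hy⟩ := exists_isTranscendenceBasis' k C
  have : Finite κ := Cardinal.lt_aleph0_iff_finite.1 (hy.cardinalMk_eq_trdeg.trans_lt trdeg_lt_aleph0_of_finiteType)
  choose t ht using fun i => Ideal.Quotient.mk_surjective (y i)
  let P := MvPolynomial κ R
  let ψ : P →ₐ[R] B := MvPolynomial.aeval t
  let resC : C →+* ResidueField A := Ideal.Quotient.lift q res fun b hb => RingHom.mem_ker.1 (hres.ge hb)
  have hresC : Function.Injective resC := by
    refine (RingHom.injective_iff_ker_eq_bot resC).2 (le_bot_iff.1 fun c hc => ?_)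
    obtain ⟨b, rfl⟩ := Ideal.Quotient.mk_surjective c
    exact Ideal.mem_bot.2 (Ideal.Quotient.eq_zero_iff_mem.2 (hres.le hc))
  let ev : P →+* MvPolynomial κ k := MvPolynomial.map (residue R)
  have hev : Function.Surjective ev := MvPolynomial.map_surjective _ residue_surjective
  have hψy : ∀ p, Ideal.Quotient.mk q (ψ p) = MvPolynomial.aeval y (ev p) := fun p => by
    have e : (Ideal.Quotient.mk q).comp ψ.toRingHom =
        (MvPolynomial.aeval (R := k) y).toRingHom.comp ev := by
      refine MvPolynomial.ringHom_ext (fun r => ?_) (fun i => ?_)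
      · show Ideal.Quotient.mk q (ψ (MvPolynomial.C r)) = MvPolynomial.aeval y (ev (MvPolynomial.C r))
        rw [MvPolynomial.aeval_C, MvPolynomial.map_C, MvPolynomial.aeval_C]
        exact (hak r).symm
      · show Ideal.Quotient.mk q (ψ (MvPolynomial.X i)) = MvPolynomial.aeval y (ev (MvPolynomial.X i))
        rw [MvPolynomial.aeval_X, MvPolynomial.map_X, MvPolynomial.aeval_X, ht]
    exact DFunLike.congr_fun e p
  -- the discrete valuation ring `D`
  let pP : Ideal P := RingHom.ker ev
  have hpP : pP.IsPrime := RingHom.ker_isPrime ev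
  have hinj : ∀ p : P, p ∉ pP → IsUnit (ι (ψ p)) := fun p hp => by
    by_contra h
    refine hp (RingHom.mem_ker.2 (hy.1 (hresC ?_)))
    rw [← hψy, map_zero, map_zero]
    exact (residue_eq_zero_iff _).2 h
  have hinjmem : ∀ p : P, p ∈ pP → ι (ψ p) ∈ maximalIdeal A := fun p hp => by
    rw [← residue_eq_zero_iff]
    show res (ψ p) = 0
    rw [show res (ψ p) = resC (Ideal.Quotient.mk q (ψ p)) from rfl, hψy, RingHom.mem_ker.1 hp, map_zero, map_zero]
  let D := Localization.AtPrime pP
  obtain ⟨π, hπ⟩ := IsDiscreteValuationRing.exists_irreducible R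
  have hpspan : pP = Ideal.span {(MvPolynomial.C π : P)} := by
    rw [show pP = RingHom.ker ev from rfl, MvPolynomial.ker_map, ker_residue,
      (IsDiscreteValuationRing.irreducible_iff_uniformizer π).1 hπ, Ideal.map_span, Set.image_singleton]
  have : IsDomain D := inferInstance
  have hDm : maximalIdeal D = Ideal.span {algebraMap P D (MvPolynomial.C π)} := by
    rw [← Localization.AtPrime.map_eq_maximalIdeal]
    exact (congrArg (Ideal.map (algebraMap P D)) hpspan).trans (by rw [Ideal.map_span, Set.image_singleton])
  have hDnf : ¬ IsField D := fun h => by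
    have h0 := IsLocalRing.isField_iff_maximalIdeal_eq.1 h
    rw [hDm, Ideal.span_singleton_eq_bot, ← map_zero (algebraMap P D)] at h0
    exact hπ.ne_zero (MvPolynomial.C_injective κ R
      ((IsLocalization.injective D (Ideal.primeCompl_le_nonZeroDivisors pP) h0).trans (map_zero _).symm))
  have : IsDiscreteValuationRing D := ((IsDiscreteValuationRing.TFAE D hDnf).out 0 4 rfl rfl).2 ⟨⟨_, hDm⟩⟩
  let φ0 : D →+* A := IsLocalization.lift (M := pP.primeCompl) (g := ι.comp ψ.toRingHom)
    fun p => hinj p.1 p.2
  have hφ0 : ∀ p, φ0 (algebraMap P D p) = ι (ψ p) := fun p => IsLocalization.lift_eq _ p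
  have : IsLocalHom φ0 := ((local_hom_TFAE φ0).out 0 2).2 (by
    rw [hDm, Ideal.map_span, Set.image_singleton, Ideal.span_singleton_le_iff_mem, hφ0]
    exact hinjmem _ (hpspan.ge (Ideal.mem_span_singleton_self _)))
  let _ : Algebra P B := ψ.toRingHom.toAlgebra
  let _ : Algebra P A := (ι.comp ψ.toRingHom).toAlgebra
  obtain ⟨k', _, _, _, _, hSH⟩ := S0537.result D
  have := hSH.henselian
  have := hSH.isSepClosure
  have hsc : IsSepClosed (ResidueField k') := IsSepClosure.sep_closed (ResidueField D)
  have := Strict24.isDomain_strictHenselization D k'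
  have hdvr : IsDiscreteValuationRing k' := Strict24.isDiscreteValuationRing D k'
  obtain ⟨γ, hγ, hγl⟩ := Henz21.exists_map_of_strictHenselization (Ash := k') φ0
  let _ : Algebra P k' := ((algebraMap D k').comp (algebraMap P D)).toAlgebra
  have hγP : ∀ p, γ (algebraMap P k' p) = ι (ψ p) := fun p =>
    (DFunLike.congr_fun hγ (algebraMap P D p)).trans (hφ0 p)
  let rγ : ResidueField k' →+* ResidueField A := ResidueField.map γ
  let _ : Algebra (ResidueField k') (ResidueField A) := rγ.toAlgebra
  let B' := k' ⊗[P] B
  let γP : k' →ₐ[P] A := { γ with commutes' := hγP }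
  let ιP : B →ₐ[P] A := { ι with commutes' := fun p => rfl }
  let Φ : B' →ₐ[P] A := Algebra.TensorProduct.productMap γP ιP
  have hΦ : ∀ a b, Φ (a ⊗ₜ[P] b) = γ a * ι b := fun a b => Algebra.TensorProduct.productMap_apply_tmul γP ιP a b
  have hΦr : ∀ b, Φ (1 ⊗ₜ[P] b) = ι b := fun b => by rw [hΦ, map_one, one_mul]
  have hΦl : ∀ a, Φ (a ⊗ₜ[P] 1) = γ a := fun a => by rw [hΦ, map_one, mul_one]
  let n : Ideal B' := (maximalIdeal A).comap Φ.toRingHom
  have hnp : n.IsPrime := Ideal.comap_isPrime _ _
  have hft : Algebra.FiniteType k' B' := by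
    have : IsScalarTower R P B := IsScalarTower.of_algebraMap_eq fun c => (ψ.commutes c).symm
    have : Algebra.FiniteType P B := Algebra.FiniteType.of_restrictScalars_finiteType R P B
    exact Algebra.FiniteType.baseChange k'
  have hncomap : n.comap (algebraMap k' B') = maximalIdeal k' := by
    ext a
    show Φ (a ⊗ₜ[P] 1) ∈ maximalIdeal A ↔ a ∈ maximalIdeal k'
    rw [hΦl, mem_maximalIdeal, mem_maximalIdeal, mem_nonunits_iff, mem_nonunits_iff, isUnit_map_iff]
  have hmax : n.IsMaximal := by
    have hbase : ∀ b : B, IsIntegral (ResidueField k') (res b) := fun b => by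
      refine IsAlgebraic.isIntegral ?_
      let L := Algebra.adjoin k (Set.range y)
      have h0 : IsAlgebraic L (Ideal.Quotient.mk q b) := hy.isAlgebraic.isAlgebraic _
      let ker : ∀ p ∈ RingHom.ker ev, residue k' (algebraMap P k' p) = 0 := fun p hp => by
        rw [residue_eq_zero_iff, mem_maximalIdeal, mem_nonunits_iff, ← isUnit_map_iff γ, ← mem_nonunits_iff,
          ← mem_maximalIdeal, hγP]
        exact hinjmem p hp
      let kP : MvPolynomial κ k →+* ResidueField k' :=
        RingHom.liftOfSurjective ev hev ⟨(residue k').comp (algebraMap P k'), fun p hp => RingHom.mem_ker.2 (ker p hp)⟩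
      have hkP : ∀ p, kP (ev p) = residue k' (algebraMap P k' p) := fun p =>
        RingHom.liftOfRightInverse_comp_apply ev _ _ _ p
      let ψL : L →+* ResidueField k' := kP.comp hy.1.aevalEquiv.symm.toRingHom
      refine h0.ringHom_of_comp_eq ψL resC ?_ ?_
      · intro a b hab
        obtain ⟨a, rfl⟩ := hy.1.aevalEquiv.surjective a
        obtain ⟨b, rfl⟩ := hy.1.aevalEquiv.surjective b
        obtain ⟨pa, rfl⟩ := hev a
        obtain ⟨pb, rfl⟩ := hev b
        refine congrArg _ (hy.1 (hresC ?_))
        rw [← hψy, ← hψy]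
        have h := congrArg rγ hab
        simp only [ψL, RingHom.comp_apply, RingEquiv.toRingHom_eq_coe, RingEquiv.coe_toRingHom, AlgEquiv.coe_ringEquiv, AlgEquiv.symm_apply_apply] at h
        rw [hkP, hkP] at h
        change residue A (γ (algebraMap P k' pa)) = residue A (γ (algebraMap P k' pb)) at h
        rw [hγP, hγP] at h
        exact h
      · refine RingHom.ext fun z => ?_
        obtain ⟨p, rfl⟩ := hy.1.aevalEquiv.surjective z
        obtain ⟨p, rfl⟩ := hev p
        show rγ (kP (hy.1.aevalEquiv.symm (hy.1.aevalEquiv (ev p)))) = resC (hy.1.aevalEquiv (ev p) : C)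
        rw [show ((hy.1.aevalEquiv (ev p) : _) : C) = MvPolynomial.aeval y (ev p) from hy.1.algebraMap_aevalEquiv (ev p),
          ← hψy, AlgEquiv.symm_apply_apply, hkP]
        exact congrArg (residue A) (hγP p)
    have hint : ∀ z : B', IsIntegral (ResidueField k') (residue A (Φ z)) := fun z => by
      induction z using TensorProduct.induction_on with
      | zero => rw [map_zero, map_zero]; exact isIntegral_zero
      | tmul a b =>
        rw [hΦ, map_mul]
        exact (isIntegral_algebraMap (x := residue k' a) : IsIntegral (ResidueField k') (residue A (γ a))).mul (hbase b)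
      | add a b ha hb => rw [map_add, map_add]; exact ha.add hb
    have hmk : ∀ z : B', z ∈ n ↔ residue A (Φ z) = 0 := fun z => (residue_eq_zero_iff _).symm
    let rq : (B' ⧸ n) →+* ResidueField A :=
      Ideal.Quotient.lift n ((residue A).comp Φ.toRingHom) fun z hz => (hmk z).1 hz
    let kq : ResidueField k' →+* B' ⧸ n :=
      Ideal.Quotient.lift (maximalIdeal k') ((Ideal.Quotient.mk n).comp (algebraMap k' B')) fun a ha =>
        Ideal.Quotient.eq_zero_iff_mem.2 (hncomap.ge ha)
    let _ : Algebra (ResidueField k') (B' ⧸ n) := kq.toAlgebra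
    let rqA : (B' ⧸ n) →ₐ[ResidueField k'] ResidueField A :=
      { rq with
        commutes' := fun c => by
          obtain ⟨a, rfl⟩ := residue_surjective c
          show residue A (Φ (a ⊗ₜ[P] 1)) = residue A (γ a)
          rw [hΦl] }
    have : Algebra.IsIntegral (ResidueField k') (B' ⧸ n) := ⟨fun c => by
      obtain ⟨z, rfl⟩ := Ideal.Quotient.mk_surjective c
      refine (isIntegral_algHom_iff rqA ?_).1 (hint z)
      refine (RingHom.injective_iff_ker_eq_bot rqA.toRingHom).2 (le_bot_iff.1 fun c hc => ?_)
      obtain ⟨w, rfl⟩ := Ideal.Quotient.mk_surjective c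
      exact Ideal.mem_bot.2 (Ideal.Quotient.eq_zero_iff_mem.2 ((hmk w).2 hc))⟩
    have : IsDomain (B' ⧸ n) := Ideal.Quotient.isDomain n
    exact Ideal.Quotient.maximal_of_isField n
      (isField_of_isIntegral_of_isField' (Field.toIsField (ResidueField k')))
  refine ⟨k', inferInstance, inferInstance, hdvr, inferInstance, hsc, B', inferInstance, inferInstance, hft, n, hmax,
    hncomap, fun L _ _ _ _ => ?_⟩
  let ΦL : L →+* A := IsLocalization.lift (M := n.primeCompl) (g := Φ.toRingHom) fun s =>
    notMem_maximalIdeal.1 s.2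
  let : Algebra L A := ΦL.toAlgebra
  have hΦL : ∀ z, algebraMap L A (algebraMap B' L z) = Φ z := fun z => IsLocalization.lift_eq _ z
  have hloc : IsLocalHom (algebraMap L A) := ⟨fun l hl => by
    obtain ⟨⟨b, s⟩, hbs⟩ := IsLocalization.surj n.primeCompl l
    have h1 : IsUnit (algebraMap L A (algebraMap B' L b)) := by
      rw [← hbs, map_mul]
      exact hl.mul ((IsLocalization.map_units L s).map _)
    rw [hΦL] at h1
    have h2 : IsUnit (algebraMap B' L b) := IsLocalization.map_units L (⟨b, notMem_maximalIdeal.2 h1⟩ : n.primeCompl)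
    rw [← hbs] at h2
    exact isUnit_of_mul_isUnit_left h2⟩
  refine ⟨ΦL.toAlgebra, hloc, ?_⟩
  -- the map from the original local ring
  let incB : B →+* B' := (Algebra.TensorProduct.includeRight : B →ₐ[P] B').toRingHom
  let θ : O →+* L := IsLocalization.lift (M := q.primeCompl) (g := (algebraMap B' L).comp incB) fun s => by
    refine IsLocalization.map_units L (⟨incB s.1, fun h => ?_⟩ : n.primeCompl)
    have h' : ι s.1 ∈ maximalIdeal A := (hΦr s.1) ▸ h
    exact s.2 (hres.le ((residue_eq_zero_iff _).2 h'))
  have hθA : (algebraMap L A).comp θ = algebraMap O A := IsLocalization.ringHom_ext q.primeCompl (RingHom.ext fun b => by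
    show algebraMap L A (θ (algebraMap B O b)) = algebraMap O A (algebraMap B O b)
    rw [IsLocalization.lift_eq, RingHom.comp_apply, hΦL]
    exact hΦr b)
  have hθ : IsLocalHom θ := ⟨fun x hx => isUnit_of_map_unit (algebraMap O A) x (by
    rw [← hθA]; exact hx.map (algebraMap L A))⟩
  let : Algebra (ResidueField O) (ResidueField L) := (ResidueField.map θ).toAlgebra
  have : IsScalarTower (ResidueField O) (ResidueField L) (ResidueField A) := IsScalarTower.of_algebraMap_eq' (by
    refine RingHom.ext fun x => ?_
    obtain ⟨r, rfl⟩ := residue_surjective x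
    exact congrArg (residue A) (DFunLike.congr_fun hθA r).symm)
  have : Algebra.IsSeparable (ResidueField O) (ResidueField A) := IsSepClosure.separable
  refine
    { henselian := inferInstance
      isSepClosure := ⟨inferInstance, Algebra.isSeparable_tower_top_of_isSeparable (ResidueField O) (ResidueField L) (ResidueField A)⟩
      universal := fun T _ _ f _ τ hτ => ?_ }
  have : IsLocalHom (f.comp θ) := RingHom.isLocalHom_comp f θ
  have hτ' : τ.comp (ResidueField.map (algebraMap O A)) = ResidueField.map (f.comp θ) := by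
    refine RingHom.ext fun x => ?_
    obtain ⟨r, rfl⟩ := residue_surjective x
    show τ (residue A (algebraMap O A r)) = residue T (f (θ r))
    rw [← hθA]
    exact DFunLike.congr_fun hτ (residue L (θ r))
  obtain ⟨g, ⟨hg, hgτ⟩, hu⟩ := hA.universal T (f.comp θ) τ hτ'
  refine ⟨g, ⟨?_, hgτ⟩, fun g' hg' => hu g' ⟨?_, hg'.2⟩⟩
  · refine IsLocalization.ringHom_ext n.primeCompl ?_
    have hB : ∀ b : B, g (Φ (1 ⊗ₜ[P] b)) = f (algebraMap B' L (1 ⊗ₜ[P] b)) := fun b => by
      rw [hΦr]
      refine (DFunLike.congr_fun hg (algebraMap B O b)).trans ?_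
      exact congrArg f (IsLocalization.lift_eq _ b)
    let h₁ : k' →+* T := g.comp γ
    let h₂ : k' →+* T := f.comp ((algebraMap B' L).comp
      (Algebra.TensorProduct.includeLeftRingHom : k' →+* B'))
    have hK : h₁.comp (algebraMap D k') = h₂.comp (algebraMap D k') :=
      IsLocalization.ringHom_ext pP.primeCompl (RingHom.ext fun p => by
        have e2 : (algebraMap P k' p) ⊗ₜ[P] (1 : B) = (1 : k') ⊗ₜ[P] (ψ p) := by
          rw [Algebra.algebraMap_eq_smul_one, TensorProduct.smul_tmul, Algebra.smul_def, mul_one]
          rfl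
        show g (γ (algebraMap P k' p)) = f (algebraMap B' L ((algebraMap P k' p) ⊗ₜ[P] (1 : B)))
        rw [hγP, e2, ← hΦr]
        exact hB (ψ p))
    have hres₁ : ∀ a, residue T (h₁ a) = τ (residue A (γ a)) := fun a => hgτ (γ a)
    have hres₂ : ∀ a, residue T (h₂ a) = τ (residue A (γ a)) := fun a => by
      show residue T (f (algebraMap B' L (a ⊗ₜ[P] (1 : B)))) = _
      rw [← hΦl, ← hΦL]
      exact (DFunLike.congr_fun hτ (residue L _)).symm
    have e : h₁ = h₂ := by
      have : IsLocalHom (h₁.comp (algebraMap D k')) := ⟨fun d hd => by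
        refine isUnit_of_map_unit (algebraMap D k') d (isUnit_of_map_unit γ _ ?_)
        refine isUnit_of_map_unit (residue A) _ (isUnit_iff_ne_zero.2 fun h0 => ?_)
        have h1 := hres₁ (algebraMap D k' d)
        rw [h0, map_zero] at h1
        exact (hd.map (residue T)).ne_zero h1⟩
      obtain ⟨g₀, -, hg₀⟩ := hSH.universal T (h₁.comp (algebraMap D k')) (τ.comp rγ) (RingHom.ext fun x => by
        obtain ⟨d, rfl⟩ := residue_surjective x
        exact (hres₁ (algebraMap D k' d)).symm)
      exact (hg₀ h₁ ⟨rfl, fun a => hres₁ a⟩).trans (hg₀ h₂ ⟨hK.symm, fun a => hres₂ a⟩).symm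
    refine RingHom.ext fun z => ?_
    show g (algebraMap L A (algebraMap B' L z)) = f (algebraMap B' L z)
    rw [hΦL]
    induction z using TensorProduct.induction_on with
    | zero => simp
    | tmul a b =>
      have hab : a ⊗ₜ[P] b = (a ⊗ₜ[P] (1 : B)) * ((1 : k') ⊗ₜ[P] b) := by
        rw [Algebra.TensorProduct.tmul_mul_tmul, mul_one, one_mul]
      rw [hab, map_mul, map_mul, map_mul, map_mul, hB, hΦl]
      exact congrArg (· * _) (DFunLike.congr_fun e a)
    | add a b ha hb => rw [map_add, map_add, map_add, map_add, ha, hb]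
  · rw [← hθA, ← RingHom.comp_assoc, hg'.1]

end Groth.Agent.EtCd93
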