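import Groth.Agent.EtCd93.ShDim
import Groth.Agent.Cyc90.FieldSetup
import Groth.Agent.Cyc90.Envelope
import Groth.Agent.Var76.FibreBound
import Groth.Agent.SpPts86.ResTrdeg
import Groth.Agent.E4O.BaseChangeDim
import Groth.Agent.VarNorm.Chart
import Groth.Prelude.Def_Hens2

/-! Residue fields and dimensions of points of a strict localization. -/

set_option autoImplicit false
universe u

open CategoryTheory CategoryTheory.Limits AlgebraicGeometry
open scoped TensorProduct
open Groth.Agent.WC97 (tdegN tdeg kSec)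

namespace Groth.Agent.EtCd93

theorem resTrdeg_eq_zero_of_surjective {U V : Scheme.{u}} (h : U ⟶ V) (x : U)
    (hs : Function.Surjective (h.residueFieldMap x).hom) : Dual3.resTrdeg h x = 0 := by
  unfold Dual3.resTrdeg
  let := (h.residueFieldMap x).hom.toAlgebra
  have : Algebra.IsAlgebraic (V.residueField (h x)) (U.residueField x) :=
    ⟨fun z => by obtain ⟨w, rfl⟩ := hs z; exact isAlgebraic_algebraMap w⟩
  exact trdeg_eq_zero

theorem isIntegral_pi_of_fields {F : Type u} [Field F] {n : ℕ} {K : Fin n → Type u} [∀ i, Field (K i)]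
    [∀ i, Algebra F (K i)] (h : ∀ i, Algebra.IsSeparable F (K i)) (x : ∀ i, K i) : IsIntegral F x := by
  refine ⟨∏ i, minpoly F (x i), Polynomial.monic_prod_of_monic _ _ fun i _ => minpoly.monic (have := h i; (Algebra.IsSeparable.isSeparable F (x i)).isIntegral), ?_⟩
  rw [← Polynomial.aeval_def]
  funext j
  rw [Polynomial.aeval_pi_apply, Pi.zero_apply]
  show Polynomial.aeval (x j) _ = 0
  rw [map_prod]
  exact Finset.prod_eq_zero (Finset.mem_univ j) (minpoly.aeval F (x j))

theorem resTrdeg_strictHenselization {O R : Type u} [CommRing O] [IsLocalRing O] [IsNoetherianRing O]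
    [CommRing R] [IsLocalRing R] [Algebra O R] [IsLocalHom (algebraMap O R)] [Hensel.IsStrictHenselization O R]
    (P : Spec (CommRingCat.of R)) :
    Dual3.resTrdeg (Spec.map (CommRingCat.ofHom (algebraMap O R))) P = 0 := by
  let φ := CommRingCat.ofHom (algebraMap O R)
  let z := (Spec.map φ).base P
  let KP := (Spec (CommRingCat.of R)).residueField P
  let p : Ideal O := (z : PrimeSpectrum O).asIdeal
  have : p.IsPrime := (z : PrimeSpectrum O).2
  let θ₀ : p.ResidueField →+* (Spec (CommRingCat.of O)).residueField z :=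
    (Scheme.Spec.residueFieldIso (CommRingCat.of O) z).inv.hom
  let β : R →+* KP := (CommRingCat.ofHom (algebraMap R _) ≫
    (Scheme.Spec.residueFieldIso (CommRingCat.of R) P).inv).hom
  let θ : p.ResidueField →+* KP := ((Spec.map φ).residueFieldMap P).hom.comp θ₀
  have hkey : ∀ a : O, β (algebraMap O R a) = θ (algebraMap O p.ResidueField a) := fun a =>
    congrArg (fun ψ => ψ.hom a) (VarNorm.residueFieldMap_SpecMap_key φ P)
  let : Algebra O KP := (β.comp (algebraMap O R)).toAlgebra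
  let : Algebra p.ResidueField KP := θ.toAlgebra
  have : IsScalarTower O p.ResidueField KP := IsScalarTower.of_algebraMap_eq hkey
  let βa : R →ₐ[O] KP := { β with commutes' := fun _ => rfl }
  let ψ : p.ResidueField ⊗[O] R →ₐ[p.ResidueField] KP :=
    Algebra.TensorProduct.lift (Algebra.ofId _ _) βa (fun _ _ => Commute.all _ _)
  obtain ⟨n, K, hF, hA, hsep, ⟨e⟩⟩ := Hensel20.exists_fields_fibre p (Henz21.strictHenselizationEquiv (R := O) R)
  have hint : ∀ r : R, IsIntegral p.ResidueField (β r) := fun r => by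
    have h1 : IsIntegral p.ResidueField (e (1 ⊗ₜ r)) :=
      isIntegral_pi_of_fields hsep _
    have h2 := (h1.map e.symm.toAlgHom).map ψ
    simpa [ψ, βa] using h2
  have halg : Algebra.IsAlgebraic p.ResidueField KP := ⟨fun x => by
    have hbij := ConcreteCategory.bijective_of_isIso (Scheme.Spec.residueFieldIso (CommRingCat.of R) P).inv
    obtain ⟨w, hw⟩ := hbij.2 x
    obtain ⟨c, d, -, hcd⟩ := IsFractionRing.div_surjective (R ⧸ (P : PrimeSpectrum R).asIdeal) w
    obtain ⟨c, rfl⟩ := Ideal.Quotient.mk_surjective c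
    obtain ⟨d, rfl⟩ := Ideal.Quotient.mk_surjective d
    have hx : x = β c * (β d)⁻¹ := by
      rw [← hw, ← hcd, map_div₀, div_eq_mul_inv]; rfl
    rw [hx]
    exact ((hint c).mul (hint d).inv).isAlgebraic⟩
  unfold Dual3.resTrdeg
  let := ((Spec.map φ).residueFieldMap P).hom.toAlgebra
  let : Algebra p.ResidueField ((Spec (CommRingCat.of O)).residueField z) := θ₀.toAlgebra
  have : IsScalarTower p.ResidueField ((Spec (CommRingCat.of O)).residueField z) KP :=
    IsScalarTower.of_algebraMap_eq fun _ => rfl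
  have : Algebra.IsAlgebraic ((Spec (CommRingCat.of O)).residueField z) KP :=
    Algebra.IsAlgebraic.tower_top (K := p.ResidueField) _
  exact trdeg_eq_zero

theorem resTrdeg_specOf {Y : Scheme.{u}} (y₀ : Y) [IsNoetherianRing (Y.presheaf.stalk y₀)] (R : Type u)
    [CommRing R] [IsLocalRing R] [Algebra (Y.presheaf.stalk y₀) R]
    [IsLocalHom (algebraMap (Y.presheaf.stalk y₀) R)] [Hensel.IsStrictHenselization (Y.presheaf.stalk y₀) R]
    (P : Spec (CommRingCat.of R)) : Dual3.resTrdeg (Hens2.specOf Y y₀ R) P = 0 := by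
  rw [SpPts86.resTrdeg_comp, resTrdeg_strictHenselization, zero_add]
  exact resTrdeg_eq_zero_of_surjective _ _ (Cyc90.residueFieldMap_surjective _ _)

theorem trdeg_quotient_bot (k M : Type u) [Field k] [CommRing M] [IsDomain M] [Algebra k M]
    [Algebra (k ⧸ (⊥ : Ideal k)) M] [IsScalarTower k (k ⧸ (⊥ : Ideal k)) M] :
    Algebra.trdeg (k ⧸ (⊥ : Ideal k)) M = Algebra.trdeg k M := by
  have hbij : Function.Bijective (Ideal.Quotient.mk (⊥ : Ideal k)) :=
    ⟨(RingHom.injective_iff_ker_eq_bot _).2 Ideal.mk_ker, Ideal.Quotient.mk_surjective⟩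
  have : Algebra.IsAlgebraic k (k ⧸ (⊥ : Ideal k)) :=
    ⟨fun x => by obtain ⟨r, rfl⟩ := Ideal.Quotient.mk_surjective x; exact isAlgebraic_algebraMap r⟩
  have : IsDomain (k ⧸ (⊥ : Ideal k)) := Ideal.Quotient.isDomain _
  have : FaithfulSMul k (k ⧸ (⊥ : Ideal k)) := (faithfulSMul_iff_algebraMap_injective _ _).2 hbij.1
  have : FaithfulSMul (k ⧸ (⊥ : Ideal k)) M := by
    refine (faithfulSMul_iff_algebraMap_injective _ _).2 fun a b hab => ?_
    obtain ⟨a, rfl⟩ := Ideal.Quotient.mk_surjective a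
    obtain ⟨b, rfl⟩ := Ideal.Quotient.mk_surjective b
    refine congrArg _ ((algebraMap k M).injective ?_)
    rw [IsScalarTower.algebraMap_apply k (k ⧸ (⊥ : Ideal k)) M, IsScalarTower.algebraMap_apply k (k ⧸ (⊥ : Ideal k)) M]
    exact hab
  have h := trdeg_add_eq k (k ⧸ (⊥ : Ideal k)) (A := M)
  rw [trdeg_eq_zero, zero_add] at h
  exact h

theorem isUniversallyCatenary_chart {k : Type u} [Field k] {Y : Scheme.{u}} (g : Y ⟶ Spec (CommRingCat.of k))
    [LocallyOfFiniteType g] {U : Y.Opens} (hU : IsAffineOpen U) : CAlg.IsUniversallyCatenary Γ(Y, U) := by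
  algebraize [kSec g hU]
  have : Algebra.FiniteType k Γ(Y, U) := WC97.kSec_finiteType g hU
  refine ⟨Algebra.FiniteType.isNoetherianRing k _, fun C _ _ hC => ?_⟩
  let : Algebra k C := ((algebraMap Γ(Y, U) C).comp (algebraMap k Γ(Y, U))).toAlgebra
  have : IsScalarTower k Γ(Y, U) C := IsScalarTower.of_algebraMap_eq fun _ => rfl
  exact (Cyc90.isUniversallyCatenary_field k).2 C (Algebra.FiniteType.trans (S := Γ(Y, U)) ‹_› hC)

theorem isUniversallyCatenary_stalk {k : Type u} [Field k] {Y : Scheme.{u}} (g : Y ⟶ Spec (CommRingCat.of k))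
    [LocallyOfFiniteType g] (y₀ : Y) : CAlg.IsUniversallyCatenary (Y.presheaf.stalk y₀) := by
  obtain ⟨U, hU, h0, -⟩ := exists_isAffineOpen_mem_and_subset (U := ⊤) (show y₀ ∈ (⊤ : Y.Opens) from trivial)
  let : Algebra Γ(Y, U) (Y.presheaf.stalk y₀) := (Y.presheaf.germ U y₀ h0).hom.toAlgebra
  have : IsLocalization.AtPrime (Y.presheaf.stalk y₀) (hU.primeIdealOf ⟨y₀, h0⟩).asIdeal :=
    hU.isLocalization_stalk ⟨y₀, h0⟩
  exact isUniversallyCatenary_localization (isUniversallyCatenary_chart g hU)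
    (hU.primeIdealOf ⟨y₀, h0⟩).asIdeal.primeCompl _

/-- The dimension of `O_{Y,y₀}` modulo the prime of a generalisation `y` is `d(y) - d(y₀)`. -/
theorem dim_stalk_quotient {k : Type u} [Field k] {Y : Scheme.{u}} (g : Y ⟶ Spec (CommRingCat.of k))
    [LocallyOfFiniteType g] (y₀ : Y) (z : Spec (Y.presheaf.stalk y₀)) (a : ℕ)
    (ha : ringKrullDim (Y.presheaf.stalk y₀ ⧸ (z : PrimeSpectrum _).asIdeal) = a) :
    a + tdegN g y₀ = tdegN g (Y.fromSpecStalk y₀ z) := by
  obtain ⟨U, hU, h0, -⟩ := exists_isAffineOpen_mem_and_subset (U := ⊤) (show y₀ ∈ (⊤ : Y.Opens) from trivial)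
  let y := Y.fromSpecStalk y₀ z
  have hy : y ∈ U := by
    have h : y ⤳ y₀ := Y.range_fromSpecStalk.le ⟨z, rfl⟩
    exact h.mem_open U.2 h0
  let B := Γ(Y, U)
  algebraize [kSec g hU]
  have : Algebra.FiniteType k B := WC97.kSec_finiteType g hU
  let : Algebra B (Y.presheaf.stalk y₀) := (Y.presheaf.germ U y₀ h0).hom.toAlgebra
  let P₀ := (hU.primeIdealOf ⟨y₀, h0⟩).asIdeal
  let Py := (hU.primeIdealOf ⟨y, hy⟩).asIdeal
  have hloc : IsLocalization.AtPrime (Y.presheaf.stalk y₀) P₀ := hU.isLocalization_stalk ⟨y₀, h0⟩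
  let p := (z : PrimeSpectrum (Y.presheaf.stalk y₀)).asIdeal
  have hp : p.IsPrime := (z : PrimeSpectrum (Y.presheaf.stalk y₀)).2
  have hPy : p.comap (algebraMap B (Y.presheaf.stalk y₀)) = Py := by
    have h1 : hU.fromSpec ((Spec.map (Y.presheaf.germ U y₀ h0)).base z) = y := by
      show _ = Y.fromSpecStalk y₀ z
      rw [← IsAffineOpen.fromSpecStalk_eq_fromSpecStalk hU h0]
      rfl
    have h2 := hU.fromSpec_primeIdealOf ⟨y, hy⟩
    exact congrArg PrimeSpectrum.asIdeal (hU.fromSpec.isOpenEmbedding.injective (h1.trans h2.symm))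
  have hle : Py ≤ P₀ := by
    rw [← hPy]
    exact (Ideal.comap_mono (IsLocalRing.le_maximalIdeal hp.ne_top)).trans_eq
      (IsLocalization.AtPrime.under_maximalIdeal (Y.presheaf.stalk y₀) P₀)
  let D := B ⧸ Py
  let N : Ideal D := P₀.map (Ideal.Quotient.mk Py)
  have hN : N.IsPrime := Ideal.map_isPrime_of_surjective Ideal.Quotient.mk_surjective (by rw [Ideal.mk_ker]; exact hle)
  have hNc : N.comap (Ideal.Quotient.mk Py) = P₀ := by
    rw [Ideal.comap_map_of_surjective _ Ideal.Quotient.mk_surjective, ← RingHom.ker_eq_comap_bot,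
      Ideal.mk_ker, sup_eq_left]
    exact hle
  have hmap : Py.map (algebraMap B (Y.presheaf.stalk y₀)) = p := by
    rw [← hPy]; exact IsLocalization.map_under P₀.primeCompl _ p
  have hdim : (a : WithBot ℕ∞) = N.height := by
    rw [← ha, show (z : PrimeSpectrum (Y.presheaf.stalk y₀)).asIdeal = p from rfl, ← hmap]
    have hM : Algebra.algebraMapSubmonoid D P₀.primeCompl = N.primeCompl := by
      ext x
      obtain ⟨s, rfl⟩ := Ideal.Quotient.mk_surjective x
      constructor
      · rintro ⟨t, ht, hts⟩ hs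
        exact ht (hNc ▸ (show Ideal.Quotient.mk Py t ∈ N from hts ▸ hs) : t ∈ P₀)
      · intro hs
        exact ⟨s, fun h => hs (Ideal.mem_map_of_mem _ h), rfl⟩
    have : IsLocalization.AtPrime (Y.presheaf.stalk y₀ ⧸ Py.map (algebraMap B (Y.presheaf.stalk y₀))) N := by
      show IsLocalization N.primeCompl _
      rw [← hM]
      infer_instance
    exact IsLocalization.AtPrime.ringKrullDim_eq_height N _
  have : IsDomain D := Ideal.Quotient.isDomain Py
  have : FaithfulSMul k D := (faithfulSMul_iff_algebraMap_injective _ _).2 (algebraMap k D).injective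
  have : N.LiesOver (⊥ : Ideal k) := ⟨(((N.under k).eq_bot_or_top).resolve_right
    (Ideal.comap_ne_top _ hN.ne_top)).symm⟩
  have h := Cyc90.height_add_trdeg_eq k (Cyc90.isUniversallyCatenary_field k) D ⊥ N
  rw [Ideal.height_bot, Cardinal.ofENat_zero, zero_add, trdeg_quotient_bot] at h
  have e : (D ⧸ N) ≃ₐ[k] B ⧸ P₀ := DoubleQuot.quotQuotEquivQuotOfLEₐ k hle
  rw [e.trdeg_eq] at h
  have h0' : Algebra.trdeg k (B ⧸ P₀) = tdeg g y₀ := WC97.tdeg_eq_trdeg_quotient g hU h0
  have hy' : Algebra.trdeg k D = tdeg g y := WC97.tdeg_eq_trdeg_quotient g hU hy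
  rw [h0', hy', WC97.tdeg_eq_natCast, WC97.tdeg_eq_natCast] at h
  have hNa : N.height = (a : ℕ∞) := by exact_mod_cast hdim.symm
  rw [hNa] at h
  exact_mod_cast h

end Groth.Agent.EtCd93
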